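import Mathlib
import Groth.Prelude.Def_CohB1
import Groth.Prelude.Def_CurvBase
import Groth.Prelude.Def_Pi1
import Groth.Agent.Lib.Helper4.P1Curve1
import Groth.Agent.Lib.Helper4.RationalExt2
import Groth.Agent.Lib.Helper4.CurveTop1
import Groth.Agent.Lib.Helper4.CurveValRings1
import Groth.Agent.Lib.Helper1.P1Iso1
import Groth.Agent.Lib.Helper1.VB5
import Groth.Agent.Lib.Helper1.Conn1
import Groth.Agent.Lib.Helper1.VA5

/-!
# A normal curve dominated by the projective line is the projective line (S7826)
(helper2)  Lüroth's theorem + extension of rational maps from normal curves to proper curves.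
-/

set_option autoImplicit false
set_option backward.isDefEq.respectTransparency.types false
set_option synthInstance.maxHeartbeats 400000
set_option maxHeartbeats 4000000
set_option linter.style.haveILetI false
set_option linter.unusedSectionVars false
set_option linter.unusedVariables false

universe u
open CategoryTheory CategoryTheory.Limits AlgebraicGeometry IsLocalRing

namespace Groth.Agent.Helper2.P1Luroth

open Groth.Agent.Lib.Helper4.P1Curve1 Groth.Agent.Lib.Helper4.RationalExt2

/-! ### Algebra: Lüroth -/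

theorem exists_ringEquiv_of_luroth (k : Type u) [Field k] (M : Type u) [CommRing M]
    (hM : IsField M) (ρ : k →+* M) (j : M →+* RatFunc k)
    (hj : ∀ c, j (ρ c) = algebraMap k (RatFunc k) c)
    (hne : ∃ m : M, j m ∉ Set.range (algebraMap k (RatFunc k))) :
    ∃ e : RatFunc k ≃+* M, ∀ c, e (algebraMap k (RatFunc k) c) = ρ c := by
  letI := hM.toField
  letI : Algebra k M := ρ.toAlgebra
  let ja : M →ₐ[k] RatFunc k := { j with commutes' := hj }
  let E : IntermediateField k (RatFunc k) := ja.fieldRange
  have hE : E ≠ ⊥ := by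
    intro h
    obtain ⟨m, hm⟩ := hne
    apply hm
    have hmem : ja m ∈ E := ⟨m, rfl⟩
    rw [h, IntermediateField.mem_bot] at hmem
    exact hmem
  let e1 : RatFunc k ≃ₐ[k] E := RatFunc.Luroth.algEquiv hE
  let e2 : M ≃ₐ[k] E := AlgEquiv.ofInjectiveField ja
  refine ⟨(e1.trans e2.symm).toRingEquiv, fun c => ?_⟩
  exact (e1.trans e2.symm).commutes c

/-! ### General facts on the base field inside function fields -/

section General

variable (k : Type u) [Field k]

theorem stalkMap_generic_eq (X : Scheme.{u}) [X.Over (Spec (CommRingCat.of k))]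
    [IrreducibleSpace X] (x : X) (c : k) :
    Curv2.stalkMap k X (genericPoint X) c =
      algebraMap (X.presheaf.stalk x) X.functionField (Curv2.stalkMap k X x c) := by
  haveI : Nonempty (⊤ : X.Opens) := ⟨⟨x, trivial⟩⟩
  simp only [Curv2.stalkMap, RingHom.comp_apply]
  have h := Scheme.algebraMap_germ_eq_germToFunctionField (X := X) (U := ⊤) (x := x) trivial
    (Coh.toGlobal (X ↘ Spec (CommRingCat.of k)) c)
  exact h.symm

theorem not_surjective_stalkMap (X : Scheme.{u}) [X.Over (Spec (CommRingCat.of k))]
    [IsIntegral X] (x : X) (hx : x ≠ genericPoint X) :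
    ¬ Function.Surjective (Curv2.stalkMap k X (genericPoint X)) := by
  intro hs
  apply hx
  apply Groth.Agent.Lib.Helper4.CurveValRings1.eq_genericPoint_of_isField_stalk
  have hbij : Function.Bijective (algebraMap (X.presheaf.stalk x) X.functionField) := by
    refine ⟨IsFractionRing.injective _ _, fun m => ?_⟩
    obtain ⟨c, rfl⟩ := hs m
    exact ⟨Curv2.stalkMap k X x c, (stalkMap_generic_eq k X x c).symm⟩
  exact (RingEquiv.ofBijective _ hbij).toMulEquiv.isField (Field.toIsField X.functionField)

theorem stalkMap_comp_of_over {X Y : Scheme.{u}} [X.Over (Spec (CommRingCat.of k))]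
    [Y.Over (Spec (CommRingCat.of k))] [IsIntegral X] [IsIntegral Y]
    (u : X ⟶ Y) (hu1 : u ≫ (Y ↘ Spec (CommRingCat.of k)) = X ↘ Spec (CommRingCat.of k))
    (ψ : Y.presheaf.stalk (genericPoint Y) ⟶ X.presheaf.stalk (genericPoint X))
    (h : X.fromSpecStalk (genericPoint X) ≫ u = Spec.map ψ ≫ Y.fromSpecStalk (genericPoint Y)) :
    ψ.hom.comp (Curv2.stalkMap k Y (genericPoint Y)) = Curv2.stalkMap k X (genericPoint X) := by
  have h1 : Spec.map (CommRingCat.ofHom (Curv2.stalkMap k X (genericPoint X))) =
      Spec.map (CommRingCat.ofHom (ψ.hom.comp (Curv2.stalkMap k Y (genericPoint Y)))) := by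
    rw [← fromSpecStalk_over k X, ← hu1, ← Category.assoc, h, Category.assoc,
      fromSpecStalk_over k Y, ← Spec.map_comp]
    rfl
  have h2 := Spec.map_injective h1
  exact (congrArg CommRingCat.Hom.hom h2).symm

end General

/-! ### The projective line -/

section PLine

variable (k : Type u) [Field k]

/-- the projective line is normal -/
theorem isNormal_P1 : Pi1.IsNormalScheme (P1 k) := by
  haveI := isIntegral_P1 k
  intro y
  refine ⟨inferInstance, ?_⟩
  obtain ⟨i, q, rfl⟩ := exists_chart k y
  obtain ⟨j, hij⟩ : ∃ j : Fin (1 + 1), j ≠ i := by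
    fin_cases i
    · exact ⟨1, by decide⟩
    · exact ⟨0, by decide⟩
  let e := chartEquiv k i j hij
  haveI : IsDomain (Chart k i) := e.toMulEquiv.isDomain (Polynomial k)
  haveI : IsIntegrallyClosed (Chart k i) := IsIntegrallyClosed.of_equiv e.symm
  have e' := (asIso ((chartι k i).stalkMap q)).commRingCatIsoToRingEquiv
  haveI h1 : IsIntegrallyClosed ((Spec.structureSheaf (Chart k i)).presheaf.stalk q) :=
    isIntegrallyClosed_of_isLocalization _ (q : PrimeSpectrum (Chart k i)).asIdeal.primeCompl
      (Ideal.primeCompl_le_nonZeroDivisors _)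
  haveI h2 : IsIntegrallyClosed ((Spec (CommRingCat.of (Chart k i))).presheaf.stalk q) := h1
  exact IsIntegrallyClosed.of_equiv e'.symm

/-- the function field of the projective line is the field of rational functions -/
theorem exists_equiv_ratFunc :
    haveI := isIntegral_P1 k
    ∃ φ : (P1 k).presheaf.stalk (genericPoint (P1 k)) ≃+* RatFunc k, ∀ c : k,
      φ (((P1 k).presheaf.germ ⊤ (genericPoint (P1 k)) trivial).hom
        (Coh.toGlobal (P1.toSpec k) c)) = algebraMap k (RatFunc k) c := by
  haveI := isIntegral_P1 k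
  have h10 : (1 : Fin (1 + 1)) ≠ 0 := by decide
  let ψ : Chart k 0 →+* RatFunc k :=
    (algebraMap (Polynomial k) (RatFunc k)).comp (chartEquiv k 0 1 h10).toRingHom
  have hψinj : Function.Injective ψ :=
    (IsFractionRing.injective (Polynomial k) (RatFunc k)).comp (chartEquiv k 0 1 h10).injective
  have hψC : ∀ c, ψ (chartC k 0 c) = algebraMap k (RatFunc k) c := by
    intro c
    show algebraMap (Polynomial k) (RatFunc k) (chartEquiv k 0 1 h10 (chartC k 0 c)) = _
    rw [chartEquiv_chartC]
    exact (IsScalarTower.algebraMap_apply k (Polynomial k) (RatFunc k) c).symm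
  haveI : IsDomain (Chart k 0) := (chartEquiv k 0 1 h10).toMulEquiv.isDomain (Polynomial k)
  let g : Spec (CommRingCat.of (RatFunc k)) ⟶ P1 k := Spec.map (CommRingCat.ofHom ψ) ≫ chartι k 0
  have hgpt : g (closedPoint (CommRingCat.of (RatFunc k))) = genericPoint (P1 k) := by
    rw [← genericPoint_eq_of_isOpenImmersion (chartι k 0)]
    show (chartι k 0) ((Spec.map (CommRingCat.ofHom ψ)) (closedPoint (CommRingCat.of (RatFunc k)))) = _
    congr 1
    rw [genericPoint_eq_bot_of_affine]
    apply PrimeSpectrum.ext
    show Ideal.comap ψ (IsLocalRing.maximalIdeal (RatFunc k)) = ⊥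
    rw [IsLocalRing.maximalIdeal_eq_bot]
    exact (RingHom.injective_iff_ker_eq_bot ψ).mp hψinj
  obtain ⟨φ, hg, hrange⟩ := exists_factor (RatFunc k) g (genericPoint (P1 k)) hgpt
  have hgs : g ≫ P1.toSpec k = Spec.map (CommRingCat.ofHom (algebraMap k (RatFunc k))) := by
    show (Spec.map (CommRingCat.ofHom ψ) ≫ chartι k 0) ≫ P1.toSpec k = _
    rw [Category.assoc, chartι_toSpec, ← Spec.map_comp]
    congr 1
    apply CommRingCat.hom_ext
    apply RingHom.ext
    intro c
    exact hψC c
  let ρ : k →+* (P1 k).presheaf.stalk (genericPoint (P1 k)) :=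
    ((P1 k).presheaf.germ ⊤ (genericPoint (P1 k)) trivial).hom.comp (Coh.toGlobal (P1.toSpec k))
  have hρ : ∀ c, φ (ρ c) = algebraMap k (RatFunc k) c := by
    have h1 : g ≫ P1.toSpec k = Spec.map (CommRingCat.ofHom (φ.comp ρ)) := by
      rw [hg, Category.assoc, fromSpecStalk_comp_eq, ← Spec.map_comp]
      rfl
    rw [hgs] at h1
    have h2 := Spec.map_injective h1
    intro c
    have h3 := congrArg (fun f => f.hom c) h2
    exact h3.symm
  have hF : IsField ((P1 k).presheaf.stalk (genericPoint (P1 k))) :=
    Field.toIsField (P1 k).functionField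
  have hinj : Function.Injective φ := by
    letI := hF.toField
    exact φ.injective
  have hpoly : ∀ p : Polynomial k, ∃ a, φ a = algebraMap (Polynomial k) (RatFunc k) p := by
    intro p
    obtain ⟨a, ha⟩ := exists_preimage_stalkClosedPointTo (Chart k 0) (RatFunc k) ψ (chartι k 0)
      ((chartEquiv k 0 1 h10).symm p)
    have hmem : ψ ((chartEquiv k 0 1 h10).symm p) ∈ Set.range φ := by
      rw [hrange]
      exact ⟨a, ha⟩
    obtain ⟨a', ha'⟩ := hmem
    refine ⟨a', ?_⟩
    rw [ha']
    show algebraMap (Polynomial k) (RatFunc k)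
      (chartEquiv k 0 1 h10 ((chartEquiv k 0 1 h10).symm p)) = _
    rw [RingEquiv.apply_symm_apply]
  have hsurj : Function.Surjective φ := by
    intro r
    obtain ⟨x, y, hy, rfl⟩ := IsFractionRing.div_surjective (A := Polynomial k) r
    obtain ⟨a, ha⟩ := hpoly x
    obtain ⟨b, hb⟩ := hpoly y
    have hy0 : algebraMap (Polynomial k) (RatFunc k) y ≠ 0 := by
      intro h0
      have := (IsFractionRing.injective (Polynomial k) (RatFunc k)) (h0.trans (map_zero _).symm)
      exact nonZeroDivisors.ne_zero hy this
    have hb0 : b ≠ 0 := by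
      intro h0
      apply hy0
      rw [← hb, h0, map_zero]
    obtain ⟨b', hb'⟩ := hF.mul_inv_cancel hb0
    refine ⟨a * b', ?_⟩
    have h1 : φ b * φ b' = 1 := by rw [← map_mul, hb', map_one]
    rw [map_mul, ha, div_eq_mul_inv]
    congr 1
    rw [hb] at h1
    exact eq_inv_of_mul_eq_one_right h1
  exact ⟨RingEquiv.ofBijective φ ⟨hinj, hsurj⟩, hρ⟩

end PLine

end Groth.Agent.Helper2.P1Luroth
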