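import Mathlib
import Groth.Agent.Lib.Helper2.P1Luroth.Main

/-!
# A normal curve dominated by the projective line is the projective line (S7826), assembly
(helper2)
-/

set_option autoImplicit false
set_option backward.isDefEq.respectTransparency.types false
set_option synthInstance.maxHeartbeats 400000
set_option maxHeartbeats 4000000
set_option linter.style.haveILetI false
set_option linter.unusedSectionVars false
set_option linter.unusedVariables false

universe u
open CategoryTheory CategoryTheory.Limits AlgebraicGeometry IsLocalRing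

namespace Groth.Agent.Helper2.P1Luroth

open Groth.Agent.Lib.Helper4.P1Curve1 Groth.Agent.Lib.Helper4.RationalExt2

/-- two integral `k`-schemes, each with a `k`-morphism to the other, inverse to each other on
function fields, are isomorphic -/
theorem comp_eq_id_of_generic (k : Type u) [Field k] {X Y : Scheme.{u}}
    [IsIntegral X] [IsIntegral Y]
    (p : X ⟶ Spec (CommRingCat.of k)) [IsSeparated p] (q : Y ⟶ Spec (CommRingCat.of k))
    (u : X ⟶ Y) (v : Y ⟶ X) (hu : u ≫ q = p) (hv : v ≫ p = q)
    (a : Y.presheaf.stalk (genericPoint Y) ⟶ X.presheaf.stalk (genericPoint X))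
    (b : X.presheaf.stalk (genericPoint X) ⟶ Y.presheaf.stalk (genericPoint Y))
    (hu3 : X.fromSpecStalk (genericPoint X) ≫ u = Spec.map a ≫ Y.fromSpecStalk (genericPoint Y))
    (hv3 : Y.fromSpecStalk (genericPoint Y) ≫ v = Spec.map b ≫ X.fromSpecStalk (genericPoint X))
    (hab : b ≫ a = 𝟙 _) : u ≫ v = 𝟙 X := by
  haveI := isDominant_fromSpecStalk_genericPoint X
  refine ext_of_isDominant_of_isSeparated p ?_ (X.fromSpecStalk (genericPoint X)) ?_
  · rw [Category.assoc, hv, hu, Category.id_comp]
  · rw [← Category.assoc, hu3, Category.assoc, hv3, ← Category.assoc, ← Spec.map_comp, hab,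
      Spec.map_id, Category.id_comp, Category.comp_id]

theorem main (k : Type u) [Field k] {X : Scheme.{u}}
    (p : X ⟶ Spec (CommRingCat.of k)) [IsSeparated p] [LocallyOfFiniteType p] [QuasiCompact p]
    [ConnectedSpace X] (hN : Pi1.IsNormalScheme X) (hdim : topologicalKrullDim X = 1)
    (f : CohB1.ProjSpace 1 k ⟶ X) (hf : f ≫ p = CohB1.ProjSpace.toSpec 1 k)
    (hnc : ∃ a b : ↥(CohB1.ProjSpace 1 k), f.base a ≠ f.base b) :
    ∃ e : X ≅ CohB1.ProjSpace 1 k, e.hom ≫ CohB1.ProjSpace.toSpec 1 k = p := by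
  haveI : IsNoetherian X := Groth.Agent.Helper1.VB5.isNoetherian_of_proper k p
  haveI : IsIntegral X := Groth.Agent.Helper1.Conn1.isIntegral_of_connected X (fun x => (hN x).1)
  letI ovX : X.Over (Spec (CommRingCat.of k)) := ⟨p⟩
  haveI : IsIntegral (CohB1.ProjSpace 1 k) := isIntegral_P1 k
  haveI : IsProper (CohB1.ProjSpace.toSpec 1 k) := inferInstance
  haveI : IsProper ((CohB1.ProjSpace 1 k) ↘ Spec (CommRingCat.of k)) :=
    ‹IsProper (CohB1.ProjSpace.toSpec 1 k)›
  haveI : LocallyOfFiniteType (X ↘ Spec (CommRingCat.of k)) := ‹LocallyOfFiniteType p›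
  haveI : QuasiCompact (X ↘ Spec (CommRingCat.of k)) := ‹QuasiCompact p›
  -- closed points have one-dimensional local rings
  have hX1 : ∀ x : X, IsClosed ({x} : Set X) → ringKrullDim (X.presheaf.stalk x) = 1 :=
    fun x hx => Groth.Agent.Helper1.P1Iso.ringKrullDim_stalk_eq_one X hdim x hx
  have hP1 : ∀ y : CohB1.ProjSpace 1 k, IsClosed ({y} : Set (CohB1.ProjSpace 1 k)) →
      ringKrullDim ((CohB1.ProjSpace 1 k).presheaf.stalk y) = 1 := fun y hy => dim_stalk_P1 k y hy
  have hNP : ∀ y : CohB1.ProjSpace 1 k, IsDomain ((CohB1.ProjSpace 1 k).presheaf.stalk y) ∧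
      IsIntegrallyClosed ((CohB1.ProjSpace 1 k).presheaf.stalk y) := isNormal_P1 k
  -- `f` is proper and surjective
  haveI : IsProper (f ≫ p) := by rw [hf]; infer_instance
  haveI : IsProper f := IsProper.of_comp f p
  have hsurj : Function.Surjective f := by
    obtain ⟨hgen, hfin⟩ := Groth.Agent.Lib.Helper4.CurveTop1.S4443_main' k X hX1
    have hcl : IsClosed (Set.range f) := f.isClosedMap.isClosed_range
    by_contra hns
    have hne : Set.range f ≠ Set.univ := fun h => hns (Set.range_eq_univ.mp h)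
    obtain ⟨-, hpts⟩ := (hfin _ hcl).mp hne
    have hξ : IsClosed ({f (genericPoint (CohB1.ProjSpace 1 k))} : Set X) := hpts _ ⟨_, rfl⟩
    obtain ⟨a, b, hab⟩ := hnc
    have key : ∀ a : CohB1.ProjSpace 1 k, f a = f (genericPoint (CohB1.ProjSpace 1 k)) := by
      intro a
      have h1 : f (genericPoint (CohB1.ProjSpace 1 k)) ⤳ f a :=
        (genericPoint_specializes a).map f.continuous
      have h2 : f a ∈ closure {f (genericPoint (CohB1.ProjSpace 1 k))} := h1.mem_closure
      rw [hξ.closure_eq] at h2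
      exact h2
    exact hab ((key a).trans (key b).symm)
  haveI : Surjective f := ⟨hsurj⟩
  haveI : UniversallyClosed p := UniversallyClosed.of_comp_surjective f p
  haveI : IsProper p := {}
  haveI : IsProper (X ↘ Spec (CommRingCat.of k)) := ‹IsProper p›
  -- the generic point
  have hfξ : f (genericPoint (CohB1.ProjSpace 1 k)) = genericPoint X := by
    obtain ⟨a, ha⟩ := hsurj (genericPoint X)
    have h1 : f (genericPoint (CohB1.ProjSpace 1 k)) ⤳ genericPoint X :=
      ha ▸ (genericPoint_specializes a).map f.continuous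
    exact (h1.antisymm (genericPoint_specializes _)).eq
  -- the embedding of function fields
  let θc : X.presheaf.stalk (genericPoint X) ⟶
      (CohB1.ProjSpace 1 k).presheaf.stalk (genericPoint (CohB1.ProjSpace 1 k)) :=
    X.presheaf.stalkSpecializes (specializes_of_eq hfξ) ≫
      f.stalkMap (genericPoint (CohB1.ProjSpace 1 k))
  have hθ : (CohB1.ProjSpace 1 k).fromSpecStalk (genericPoint (CohB1.ProjSpace 1 k)) ≫ f =
      Spec.map θc ≫ X.fromSpecStalk (genericPoint X) :=
    fromSpecStalk_comp_of_generic f θc hfξ rfl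
  have hθρ : θc.hom.comp (Curv2.stalkMap k X (genericPoint X)) =
      Curv2.stalkMap k (CohB1.ProjSpace 1 k) (genericPoint (CohB1.ProjSpace 1 k)) :=
    stalkMap_comp_of_over k f hf θc hθ
  have hθinj : Function.Injective θc.hom := by
    letI : Field (X.presheaf.stalk (genericPoint X)) :=
      inferInstanceAs (Field X.functionField)
    exact θc.hom.injective
  -- the function field of the projective line
  obtain ⟨φ₀, hφ₀⟩ := exists_equiv_ratFunc k
  have hφ₀' : ∀ c : k, φ₀ (Curv2.stalkMap k (CohB1.ProjSpace 1 k)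
      (genericPoint (CohB1.ProjSpace 1 k)) c) = algebraMap k (RatFunc k) c := hφ₀
  -- non-triviality
  obtain ⟨x₀, hx₀⟩ : ∃ x : X, x ≠ genericPoint X := by
    obtain ⟨a, b, hab⟩ := hnc
    by_cases ha : f a = genericPoint X
    · refine ⟨f b, fun hb => hab (ha.trans hb.symm)⟩
    · exact ⟨f a, ha⟩
  have hns := not_surjective_stalkMap k X x₀ hx₀
  let j : X.presheaf.stalk (genericPoint X) →+* RatFunc k := φ₀.toRingHom.comp θc.hom
  have hj : ∀ c, j (Curv2.stalkMap k X (genericPoint X) c) = algebraMap k (RatFunc k) c := by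
    intro c
    show φ₀ (θc.hom (Curv2.stalkMap k X (genericPoint X) c)) = _
    have := congrArg (fun g => g c) hθρ
    simp only [RingHom.comp_apply] at this
    rw [this]
    exact hφ₀' c
  have hjinj : Function.Injective j := φ₀.injective.comp hθinj
  have hne : ∃ m : X.presheaf.stalk (genericPoint X),
      j m ∉ Set.range (algebraMap k (RatFunc k)) := by
    by_contra hall
    push Not at hall
    apply hns
    intro m
    obtain ⟨c, hc⟩ := hall m
    refine ⟨c, hjinj ?_⟩
    rw [hj c, hc]
  obtain ⟨e, he⟩ := exists_ringEquiv_of_luroth k (X.presheaf.stalk (genericPoint X))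
    (Field.toIsField X.functionField) (Curv2.stalkMap k X (genericPoint X)) j hj hne
  let ε : (CohB1.ProjSpace 1 k).presheaf.stalk (genericPoint (CohB1.ProjSpace 1 k)) ≃+*
      X.presheaf.stalk (genericPoint X) := φ₀.trans e
  have hε : ε.toRingHom.comp (Curv2.stalkMap k (CohB1.ProjSpace 1 k)
      (genericPoint (CohB1.ProjSpace 1 k))) = Curv2.stalkMap k X (genericPoint X) := by
    ext c
    show e (φ₀ _) = _
    rw [hφ₀' c, he c]
  have hε' : ε.symm.toRingHom.comp (Curv2.stalkMap k X (genericPoint X)) =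
      Curv2.stalkMap k (CohB1.ProjSpace 1 k) (genericPoint (CohB1.ProjSpace 1 k)) := by
    ext c
    show ε.symm _ = _
    rw [RingEquiv.symm_apply_eq]
    exact (congrArg (fun g => g c) hε).symm
  -- the two morphisms
  obtain ⟨u, ⟨hu1, hu, hu2⟩, -⟩ := S4445_main k X (CohB1.ProjSpace 1 k) hX1 hN ε.toRingHom hε
  obtain ⟨v, ⟨hv1, hv, hv2⟩, -⟩ := S4445_main k (CohB1.ProjSpace 1 k) X hP1 hNP ε.symm.toRingHom hε'
  have hu3 := fromSpecStalk_comp_of_generic u (CommRingCat.ofHom ε.toRingHom) hu
    (CommRingCat.hom_ext hu2)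
  have hv3 := fromSpecStalk_comp_of_generic v (CommRingCat.ofHom ε.symm.toRingHom) hv
    (CommRingCat.hom_ext hv2)
  have hab1 : CommRingCat.ofHom ε.symm.toRingHom ≫ CommRingCat.ofHom ε.toRingHom = 𝟙 _ := by
    apply CommRingCat.hom_ext
    apply RingHom.ext
    intro z
    exact ε.apply_symm_apply z
  have hab2 : CommRingCat.ofHom ε.toRingHom ≫ CommRingCat.ofHom ε.symm.toRingHom = 𝟙 _ := by
    apply CommRingCat.hom_ext
    apply RingHom.ext
    intro z
    exact ε.symm_apply_apply z
  have huv : u ≫ v = 𝟙 X :=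
    comp_eq_id_of_generic k p (CohB1.ProjSpace.toSpec 1 k) u v hu1 hv1 _ _ hu3 hv3 hab1
  have hvu : v ≫ u = 𝟙 (CohB1.ProjSpace 1 k) :=
    comp_eq_id_of_generic k (CohB1.ProjSpace.toSpec 1 k) p v u hv1 hu1 _ _ hv3 hu3 hab2
  exact ⟨⟨u, v, huv, hvu⟩, hu1⟩

end Groth.Agent.Helper2.P1Luroth
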